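import Cfsg.Agent.Lib.Block.ModP
import Cfsg.Agent.Lib.Block.Osima
import Cfsg.Agent.Lib.Block.Exist
import Cfsg.Agent.Lib.CharTools.Basic
import Cfsg.Agent.Lib.CharAux
import Cfsg.Agent.Lib.Char.Induced
import Cfsg.Agent.Lib.Char.Scalar
import Mathlib.GroupTheory.Index

/-!
# Congruences between a group and the fixed points of a `p`-group modulo a normal Sylow subgroup
-/

set_option autoImplicit false
set_option linter.unusedSectionVars false
set_option linter.style.haveILetI false

namespace Cfsg.Agent.Lib.RelGlauberman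

open Cfsg Cfsg.Agent.Lib.Char
open scoped ComplexConjugate Classical

universe u v

variable {K : Type u} [Group K]

/-- Invariance of a function under a group of automorphisms. -/
def Inv {P : Type v} [Group P] (a : P →* MulAut K) (θ : K → ℂ) : Prop := ∀ x k, θ (a x k) = θ k

/-- The sum over a normal subgroup of a translate of an irreducible character. -/
theorem sum_translate_irr [Finite K] {χ : K → ℂ} (hχ : IsIrrCharacter K χ) (N : Subgroup K)
    [N.Normal] [Fintype N] (k : K) :
    ∑ n : N, χ (k * n) = 0 ∨ ∑ n : N, χ (k * n) = (Nat.card N : ℂ) * χ k := by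
  have := Fintype.ofFinite K
  rcases CharTools.sum_normal_eq_zero_or_const hχ N with h | h
  · right
    rw [Finset.sum_congr rfl fun (n : N) _ => show χ (k * n) = χ k from ?_, Finset.sum_const,
      Finset.card_univ, nsmul_eq_mul, Nat.card_eq_fintype_card]
    have h1 := (apply_mul_of_norm_eq (isCharacter_of_isIrr hχ) (congrArg _ (h n n.2)) k).2
    rw [h n n.2, mul_comm (χ 1)] at h1
    exact mul_right_cancel₀ (irr_degree_ne_zero hχ) h1
  · left
    obtain ⟨d, ρ, hρ, rfl⟩ := hχ
    haveI := hρ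
    let f : K → ℂ := fun g => if g ∈ N then 1 else 0
    have hf : IsClassFunction K f := fun g x =>
      if_congr ⟨fun h => by simpa [mul_assoc] using (inferInstance : N.Normal).conj_mem _ h x⁻¹,
        fun h => (inferInstance : N.Normal).conj_mem g h x⟩ rfl rfl
    obtain ⟨c, hc, hcn⟩ := avgOp_irreducible ρ hf
    have hd : (Module.finrank ℂ (Fin d → ℂ) : ℂ) ≠ 0 := by
      have := irr_degree_ne_zero (G := K) ⟨d, ρ, hρ, rfl⟩
      rwa [Representation.char_one] at this
    have hsum : ∀ F : K → ℂ, ∑ g, f g * F g = ∑ n : N, F n := fun F => by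
      simp only [f, ite_mul, one_mul, zero_mul]
      rw [← Finset.sum_filter]
      exact (Finset.sum_subtype _ (by simp) F).symm.symm
    have hc0 : c = 0 := by
      refine (mul_eq_zero.1 (hcn.trans ?_)).resolve_right hd
      rw [hsum, ← h]
      exact (Finset.sum_subtype _ (by simp) ρ.character).symm
    have h2 : ρ k * avgOp ρ f = 0 := by rw [hc, hc0, zero_smul, mul_zero]
    have h3 := congrArg (LinearMap.trace ℂ (Fin d → ℂ)) h2
    rw [avgOp, Finset.mul_sum, map_sum, map_zero] at h3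
    rw [← hsum (fun g => ρ.character (k * g)), ← h3]
    refine Finset.sum_congr rfl fun g _ => ?_
    rw [mul_smul_comm, map_smul, smul_eq_mul, ← map_mul]
    rfl

/-- The sum of a character over a coset of a normal subgroup is divisible by its order. -/
theorem isIntegral_sum_translate [Finite K] {φ : K → ℂ} (hφ : IsCharacter K φ) (N : Subgroup K)
    [N.Normal] [Fintype N] (k : K) :
    IsIntegral ℤ ((Nat.card N : ℂ)⁻¹ * ∑ n : N, φ (k * n)) := by
  have := Fintype.ofFinite K
  obtain ⟨c, hc⟩ := isCharacter_eq_sum hφ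
  rw [hc]
  simp only [Finset.sum_apply, Pi.smul_apply, smul_eq_mul]
  rw [Finset.sum_comm, Finset.mul_sum]
  refine IsIntegral.sum _ fun χ _ => ?_
  rw [← Finset.mul_sum, mul_left_comm]
  refine IsIntegral.mul (isIntegral_algebraMap (x := (c χ : ℤ))) ?_
  rcases sum_translate_irr χ.2 N k with h | h
  · rw [h, mul_zero]; exact isIntegral_zero
  · rw [h, ← mul_assoc, inv_mul_cancel₀ (card_ne_zero_complex N), one_mul]
    exact char_isIntegral (isCharacter_of_isIrr χ.2) k

variable {P : Type v} [Group P] (a : P →* MulAut K)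

/-- The restriction of a group of automorphisms to an invariant subgroup. -/
def restrAut (H : Subgroup K) (h : ∀ x, ∀ k ∈ H, a x k ∈ H) : P →* MulAut H where
  toFun x :=
    { toFun := fun k => ⟨a x k, h x k k.2⟩
      invFun := fun k => ⟨a x⁻¹ k, h x⁻¹ k k.2⟩
      left_inv := fun k => Subtype.ext (by
        show a x⁻¹ (a x k) = k
        rw [← MulAut.mul_apply, ← map_mul, inv_mul_cancel, map_one, MulAut.one_apply])
      right_inv := fun k => Subtype.ext (by
        show a x (a x⁻¹ k) = k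
        rw [← MulAut.mul_apply, ← map_mul, mul_inv_cancel, map_one, MulAut.one_apply])
      map_mul' := fun k l => Subtype.ext (map_mul (a x) (k : K) (l : K)) }
  map_one' := MulEquiv.ext fun k => Subtype.ext (by
    show a 1 k = k
    rw [map_one, MulAut.one_apply])
  map_mul' x y := MulEquiv.ext fun k => Subtype.ext (by
    show a (x * y) k = a x (a y k)
    rw [map_mul, MulAut.mul_apply])

@[simp] theorem restrAut_apply (H : Subgroup K) (h : ∀ x, ∀ k ∈ H, a x k ∈ H) (x : P) (k : H) :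
    ((restrAut a H h x k : H) : K) = a x k := rfl

/-- The conjugate of an irreducible character by an automorphism. -/
def irrMap (x : P) (χ : IrrCharacter K) : IrrCharacter K :=
  ⟨fun k => (χ : K → ℂ) (a x⁻¹ k), isIrrCharacter_comp χ.2 (a x⁻¹).toMonoidHom (a x⁻¹).surjective⟩

/-- The action on irreducible characters. -/
@[reducible] def irrAction : MulAction P (IrrCharacter K) where
  smul := irrMap a
  one_smul χ := Subtype.ext (funext fun k => by
    show (χ : K → ℂ) (a (1 : P)⁻¹ k) = (χ : K → ℂ) k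
    rw [inv_one, map_one, MulAut.one_apply])
  mul_smul x y χ := Subtype.ext (funext fun k => by
    show (χ : K → ℂ) (a (x * y)⁻¹ k) = (χ : K → ℂ) (a y⁻¹ (a x⁻¹ k))
    rw [mul_inv_rev, map_mul, MulAut.mul_apply])

theorem irrMap_fixed_iff (χ : IrrCharacter K) :
    (∀ x : P, irrMap a x χ = χ) ↔ Inv a (χ : K → ℂ) := by
  constructor
  · intro h x k
    have := congrArg (fun ψ : IrrCharacter K => (ψ : K → ℂ) k) (h x⁻¹)
    simpa [irrMap] using this
  · intro h x
    exact Subtype.ext (funext fun k => h x⁻¹ k)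

/-- A sum over the irreducible characters of an invariant function reduces, in characteristic `p`,
to the invariant characters. -/
theorem sum_irr_eq_sum_inv [Finite K] [Fintype (IrrCharacter K)] {p : ℕ} [Fact p.Prime]
    {R : Type*} [CommRing R] [CharP R p] (hP : IsPGroup p P) (f : IrrCharacter K → R)
    (hf : ∀ x χ, f (irrMap a x χ) = f χ) :
    ∑ χ, f χ = ∑ χ ∈ Finset.univ.filter (fun χ : IrrCharacter K => Inv a (χ : K → ℂ)), f χ := by
  letI := irrAction a
  rw [Block.sum_eq_sum_fixed (p := p) (P := P) hP f (fun g χ => hf g χ)]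
  exact Finset.sum_congr (Finset.filter_congr fun χ _ => irrMap_fixed_iff a χ) fun _ _ => rfl

/-- The standing hypotheses: `Q` is a normal Sylow `p`-subgroup of `K` and `C` consists of the
elements fixed by `P` modulo `Q`. -/
structure Setup (p : ℕ) (Q C : Subgroup K) : Prop where
  pgroupP : IsPGroup p P
  normal : Q.Normal
  stable : ∀ x : P, ∀ q ∈ Q, a x q ∈ Q
  index : ¬ p ∣ Q.index
  mem : ∀ k, k ∈ C ↔ ∀ x, a x k * k⁻¹ ∈ Q

namespace Setup

variable {a} {p : ℕ} [Fact p.Prime] [Finite K] {Q C : Subgroup K} (S : Setup a p Q C)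

include S

theorem mk_eq {k l : K} (x : P) (h : (k : K ⧸ Q) = l) : (a x k : K ⧸ Q) = a x l := by
  rw [QuotientGroup.eq] at h ⊢
  rw [← map_inv, ← map_mul]
  exact S.stable x _ h

theorem mem_iff {k : K} : k ∈ C ↔ ∀ x, (a x k : K ⧸ Q) = k := by
  have := S.normal
  rw [S.mem]
  refine forall_congr' fun x => ?_
  rw [← div_eq_mul_inv, ← QuotientGroup.eq_iff_div_mem]

theorem le : Q ≤ C := fun q hq => (S.mem q).2 fun x => Q.mul_mem (S.stable x q hq) (Q.inv_mem hq)

theorem map_mem (y : P) (c : K) (hc : c ∈ C) : a y c ∈ C := by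
  rw [S.mem_iff] at hc ⊢
  intro x
  have h1 := S.mk_eq y (hc (y⁻¹ * x * y))
  rwa [← MulAut.mul_apply, ← map_mul, mul_assoc y⁻¹, mul_inv_cancel_left, map_mul,
    MulAut.mul_apply] at h1

/-- The action on `C`. -/
def autC : P →* MulAut C := restrAut a C S.map_mem

/-- In characteristic `p` an invariant sum over cosets reduces to the cosets inside `C`. -/
theorem sum_quotient {R : Type*} [CommRing R] [CharP R p] [Fintype (K ⧸ Q)]
    (f : K ⧸ Q → R) (hf : ∀ x (k : K), f (a x k : K) = f (k : K)) :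
    ∑ b, f b = ∑ b ∈ Finset.univ.filter (fun b : K ⧸ Q => b.out ∈ C), f b := by
  have := S.normal
  letI : MulAction P (K ⧸ Q) :=
    { smul := fun x b => ((a x b.out : K) : K ⧸ Q)
      one_smul := fun b => by
        show ((a 1 b.out : K) : K ⧸ Q) = b
        rw [map_one, MulAut.one_apply, QuotientGroup.out_eq']
      mul_smul := fun x y b => by
        show ((a (x * y) b.out : K) : K ⧸ Q) = (a x ((a y b.out : K) : K ⧸ Q).out : K)
        rw [map_mul, MulAut.mul_apply]
        exact S.mk_eq x (QuotientGroup.out_eq' _).symm }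
  rw [Block.sum_eq_sum_fixed (p := p) (P := P) S.pgroupP f (fun x b => (hf x b.out).trans
    (congrArg f (QuotientGroup.out_eq' b)))]
  refine Finset.sum_congr (Finset.filter_congr fun b _ => ?_) fun _ _ => rfl
  rw [S.mem_iff]
  refine forall_congr' fun x => ?_
  rw [QuotientGroup.out_eq']
  exact Iff.rfl

theorem sum_by_cosets [Fintype K] [Fintype Q] [Fintype (K ⧸ Q)] (f : K → ℂ) :
    ∑ k, f k = ∑ b : K ⧸ Q, ∑ q : Q, f (b.out * q) := by
  rw [← Fintype.sum_bijective (fun z : (K ⧸ Q) × Q => z.1.out * (z.2 : K)) ⟨?_, ?_⟩ _ f (fun _ => rfl),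
    Fintype.sum_prod_type]
  · rintro ⟨b, q⟩ ⟨b', q'⟩ h
    simp only at h
    have hb : b = b' := by
      have h1 := congrArg (fun k : K => (k : K ⧸ Q)) h
      simpa [QuotientGroup.mk_mul_of_mem _ q.2, QuotientGroup.mk_mul_of_mem _ q'.2] using h1
    subst hb
    exact Prod.ext rfl (Subtype.ext (mul_left_cancel h))
  · intro k
    obtain ⟨q, hq⟩ := QuotientGroup.mk_out_eq_mul Q k
    exact ⟨((k : K ⧸ Q), q⁻¹), by simp [hq]⟩

theorem sum_C_by_cosets [Fintype C] [Fintype Q] [Fintype (K ⧸ Q)] (f : K → ℂ) :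
    ∑ c : C, f c = ∑ b ∈ Finset.univ.filter (fun b : K ⧸ Q => b.out ∈ C), ∑ q : Q, f (b.out * q) := by
  have := Fintype.ofFinite K
  have e1 : ∑ c : C, f c = ∑ k : K, if k ∈ C then f k else 0 := by
    rw [← Finset.sum_filter]
    exact (Finset.sum_subtype _ (by simp) f).symm
  rw [e1, S.sum_by_cosets, Finset.sum_filter]
  refine Finset.sum_congr rfl fun b _ => ?_
  have hmem : ∀ q : Q, b.out * (q : K) ∈ C ↔ b.out ∈ C := fun q => C.mul_mem_cancel_right (S.le q.2)
  split_ifs with h
  · exact Finset.sum_congr rfl fun q _ => if_pos ((hmem q).2 h)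
  · exact Finset.sum_eq_zero fun q _ => if_neg fun h' => h ((hmem q).1 h')

theorem natCast_eq_of_redC {M : Ideal AlgInt} [M.IsPrime] (hM : IsPModular p M) {m n : ℕ}
    (h : Block.redC M (m : ℂ) = Block.redC M (n : ℂ)) : (m : ZMod p) = n := by
  haveI := Block.resField_charP hM
  rw [Block.redC_natCast, Block.redC_natCast, CharP.natCast_eq_natCast (Block.ResField M) p] at h
  exact (CharP.natCast_eq_natCast (ZMod p) p).2 h

/-- Integral sums over `K` and `C`, divided by the order of `Q`, agree modulo `M`. -/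
theorem redC_sum_eq [Fintype K] [Fintype C] {φ : K → ℂ} (hφ : IsCharacter K φ) (hinv : Inv a φ)
    (M : Ideal AlgInt) [M.IsPrime] (hM : IsPModular p M) :
    Block.redC M ((Nat.card Q : ℂ)⁻¹ * ∑ k, φ k) =
      Block.redC M ((Nat.card Q : ℂ)⁻¹ * ∑ c : C, φ c) := by
  have := S.normal
  haveI := Block.resField_charP hM
  have := Fintype.ofFinite Q
  have := Fintype.ofFinite (K ⧸ Q)
  rw [S.sum_by_cosets, S.sum_C_by_cosets, Finset.mul_sum, Finset.mul_sum]
  have hint : ∀ b : K ⧸ Q, (Nat.card Q : ℂ)⁻¹ * ∑ q : Q, φ (b.out * q) ∈ Block.locRing M :=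
    fun b => Block.integral_mem_locRing (isIntegral_sum_translate hφ Q b.out)
  rw [Block.redC_sum _ fun b _ => hint b, Block.redC_sum _ fun b _ => hint b]
  refine S.sum_quotient _ fun x k => congrArg (fun z => Block.redC M ((Nat.card Q : ℂ)⁻¹ * z)) ?_
  obtain ⟨q₀, hq₀⟩ := QuotientGroup.mk_out_eq_mul Q (a x k)
  obtain ⟨q₁, hq₁⟩ := QuotientGroup.mk_out_eq_mul Q k
  have hshift : ∀ (l : K) (q₂ : Q), ∑ q : Q, φ (l * q₂ * q) = ∑ q : Q, φ (l * q) := fun l q₂ =>
    Fintype.sum_equiv (Equiv.mulLeft q₂) _ _ fun q => by simp [mul_assoc]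
  rw [hq₀, hq₁, hshift, hshift]
  refine (Fintype.sum_equiv ((restrAut a Q fun y k hk => S.stable y k hk) x).toEquiv _ _ fun q => ?_).symm
  rw [← hinv x (k * q), map_mul]
  rfl

/-- The index of `Q` in `C` is prime to `p`. -/
theorem relIndex_not_dvd : ¬ p ∣ Q.relIndex C := fun h => S.index
  (h.trans (Dvd.intro _ (Subgroup.relIndex_mul_index S.le)))

theorem card_eq : (Nat.card K : ℂ) = (Nat.card Q : ℂ) * (Q.index : ℂ) := by
  rw [← Q.index_mul_card]; push_cast; ring

theorem card_C_eq : (Nat.card C : ℂ) = (Nat.card Q : ℂ) * (Q.relIndex C : ℂ) := by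
  rw [← (Q.subgroupOf C).index_mul_card, Nat.card_congr (Subgroup.subgroupOfEquivOfLe S.le).toEquiv]
  push_cast
  rw [mul_comm]
  rfl

theorem index_eq : (Q.index : ZMod p) = Q.relIndex C := by
  have := Fintype.ofFinite K
  have := Fintype.ofFinite C
  obtain ⟨M, hM⟩ := Block.exists_isPModular (p := p) Fact.out
  haveI := hM.2.1.isPrime
  refine S.natCast_eq_of_redC hM ?_
  have h := S.redC_sum_eq (φ := fun _ : K => (1 : ℂ)) isCharacter_one (fun _ _ => rfl) M hM
  simp only [Finset.sum_const, Finset.card_univ, nsmul_eq_mul, mul_one, ← Nat.card_eq_fintype_card,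
    S.card_eq, S.card_C_eq, ← mul_assoc, inv_mul_cancel₀ (card_ne_zero_complex Q), one_mul] at h
  exact h

end Setup

/-- The multiplicity of `ξ` in the restriction of `χ`. -/
noncomputable def mult [Finite K] {C : Subgroup K} (χ : IrrCharacter K) (ξ : IrrCharacter C) : ℕ :=
  letI := Fintype.ofFinite C
  Classical.choose (classInner_natCast (isCharacter_restrict (isCharacter_of_isIrr χ.2) C)
    (isCharacter_of_isIrr ξ.2))

theorem mult_spec [Finite K] {C : Subgroup K} [Fintype C] (χ : IrrCharacter K) (ξ : IrrCharacter C) :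
    classInner (fun c : C => (χ : K → ℂ) c) (ξ : C → ℂ) = (mult χ ξ : ℂ) := by
  letI F := Fintype.ofFinite C
  have h := Classical.choose_spec (classInner_natCast
    (isCharacter_restrict (isCharacter_of_isIrr χ.2) C) (isCharacter_of_isIrr ξ.2))
  convert h using 2
  simp only [classInner]
  congr!

theorem restrict_eq_sum_mult [Finite K] {C : Subgroup K} [Fintype C] (χ : IrrCharacter K) :
    (fun c : C => (χ : K → ℂ) c) = fun c => ∑ ξ : IrrCharacter C, (mult χ ξ : ℂ) * (ξ : C → ℂ) c := by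
  conv_lhs => rw [eq_sum_classInner_smul (isClassFunction_of_isCharacter
    (isCharacter_restrict (isCharacter_of_isIrr χ.2) C))]
  funext c
  simp [Finset.sum_apply, mult_spec]

namespace Setup

variable {a} {p : ℕ} [Fact p.Prime] [Finite K] {Q C : Subgroup K} (S : Setup a p Q C)

include S

theorem mult_map {χ : IrrCharacter K} (hχ : Inv a (χ : K → ℂ)) (x : P) (ξ : IrrCharacter C) :
    mult χ (irrMap S.autC x ξ) = mult χ ξ := by
  have := Fintype.ofFinite C
  apply Nat.cast_injective (R := ℂ)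
  rw [← mult_spec, ← mult_spec]
  simp only [classInner]
  congr 1
  refine Fintype.sum_equiv (S.autC x⁻¹).toEquiv _ _ fun c => ?_
  show (χ : K → ℂ) c * conj ((ξ : C → ℂ) (S.autC x⁻¹ c)) =
    (χ : K → ℂ) (a x⁻¹ c) * conj ((ξ : C → ℂ) (S.autC x⁻¹ c))
  rw [hχ]

/-- The rows of the multiplicity matrix are orthonormal modulo `p`. -/
theorem row_orth {χ ψ : IrrCharacter K} (hχ : Inv a (χ : K → ℂ)) (hψ : Inv a (ψ : K → ℂ))
    [Fintype (IrrCharacter C)] :
    ∑ ξ ∈ Finset.univ.filter (fun ξ : IrrCharacter C => Inv S.autC (ξ : C → ℂ)),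
      (mult χ ξ : ZMod p) * (mult ψ ξ : ZMod p) = if χ = ψ then 1 else 0 := by
  have := Fintype.ofFinite K
  have := Fintype.ofFinite C
  obtain ⟨M, hM⟩ := Block.exists_isPModular (p := p) Fact.out
  haveI := hM.2.1.isPrime
  rw [← sum_irr_eq_sum_inv S.autC S.pgroupP (fun ξ => (mult χ ξ : ZMod p) * (mult ψ ξ : ZMod p))
    (fun x ξ => by rw [S.mult_map hχ, S.mult_map hψ])]
  have hs : classInner (fun c : C => (χ : K → ℂ) c) (fun c : C => (ψ : K → ℂ) c) =
      ((∑ ξ : IrrCharacter C, mult χ ξ * mult ψ ξ : ℕ) : ℂ) := by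
    rw [classInner_eq_sum (isClassFunction_of_isCharacter
      (isCharacter_restrict (isCharacter_of_isIrr ψ.2) C))]
    push_cast
    exact Finset.sum_congr (by congr!) fun ξ _ => by rw [mult_spec, mult_spec, Complex.conj_natCast]
  have h := S.redC_sum_eq (isCharacter_mul (isCharacter_of_isIrr χ.2)
    (isCharacter_conj (isCharacter_of_isIrr ψ.2)))
    (fun x k => show (χ : K → ℂ) (a x k) * conj ((ψ : K → ℂ) (a x k)) = _ by rw [hχ, hψ]; rfl) M hM
  have hK : (Nat.card Q : ℂ)⁻¹ * ∑ k : K, (χ : K → ℂ) k * conj ((ψ : K → ℂ) k) =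
      ((Q.index * (if χ = ψ then 1 else 0) : ℕ) : ℂ) := by
    have e : ∑ k : K, (χ : K → ℂ) k * conj ((ψ : K → ℂ) k) =
        (Nat.card K : ℂ) * classInner (χ : K → ℂ) (ψ : K → ℂ) := by
      rw [classInner, ← mul_assoc, mul_inv_cancel₀ (card_ne_zero_complex K), one_mul]
    rw [e, S.card_eq, mul_assoc, ← mul_assoc, inv_mul_cancel₀ (card_ne_zero_complex Q), one_mul]
    split_ifs with he
    · subst he
      rw [classInner_irr_self χ.2]; simp
    · rw [classInner_irr_ne χ.2 ψ.2 fun e => he (Subtype.ext e)]; simp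
  have hC : (Nat.card Q : ℂ)⁻¹ * ∑ c : C, (χ : K → ℂ) c * conj ((ψ : K → ℂ) c) =
      ((Q.relIndex C * ∑ ξ : IrrCharacter C, mult χ ξ * mult ψ ξ : ℕ) : ℂ) := by
    rw [Nat.cast_mul, ← hs, classInner, ← mul_assoc (Q.relIndex C : ℂ)]
    congr 1
    rw [S.card_C_eq, mul_inv, ← mul_assoc, mul_comm (Q.relIndex C : ℂ), mul_assoc,
      mul_inv_cancel₀, mul_one]
    exact Nat.cast_ne_zero.2 fun h0 => S.relIndex_not_dvd (h0 ▸ dvd_zero p)
  have h2 := S.natCast_eq_of_redC hM ((congrArg (Block.redC M) hK.symm).trans (h.trans (congrArg (Block.redC M) hC)))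
  simp only [Nat.cast_mul, Nat.cast_ite, Nat.cast_one, Nat.cast_zero, Nat.cast_sum] at h2
  rw [S.index_eq] at h2
  convert (mul_left_cancel₀ (fun h0 => S.relIndex_not_dvd ((ZMod.natCast_eq_zero_iff _ _).1 h0)) h2).symm

/-- Every invariant character of `C` occurs in some invariant character of `K` with multiplicity
prime to `p`. -/
theorem exists_mult_ne_zero {ξ : IrrCharacter C} (hξ : Inv S.autC (ξ : C → ℂ)) :
    ∃ χ : IrrCharacter K, Inv a (χ : K → ℂ) ∧ (mult χ ξ : ZMod p) ≠ 0 := by
  have := S.normal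
  have := Fintype.ofFinite K
  have := Fintype.ofFinite C
  have := Fintype.ofFinite Q
  have := Fintype.ofFinite (K ⧸ Q)
  obtain ⟨M, hM⟩ := Block.exists_isPModular (p := p) Fact.out
  haveI := hM.2.1.isPrime
  haveI := Block.resField_charP hM
  by_contra hno
  push Not at hno
  let F : K → ℂ := fun k => ∑ c : C, extendByZero C (ξ : C → ℂ) (k⁻¹ * c * k) * conj ((ξ : C → ℂ) c)
  have hFint : ∀ k, IsIntegral ℤ ((Nat.card Q : ℂ)⁻¹ * F k) := by
    intro k
    let D : Subgroup C := C.comap ((MulAut.conj k⁻¹).toMonoidHom.comp C.subtype)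
    have := Fintype.ofFinite D
    let f₁ : D →* C := MonoidHom.codRestrict ((MulAut.conj k⁻¹).toMonoidHom.comp (C.subtype.comp D.subtype))
      C fun d => d.2
    obtain ⟨m, hm⟩ := classInner_natCast (isCharacter_comp (isCharacter_of_isIrr ξ.2) f₁)
      (isCharacter_restrict (isCharacter_of_isIrr ξ.2) D)
    have hF : F k = (Nat.card D : ℂ) * (m : ℂ) := by
      rw [← hm, classInner, ← mul_assoc, mul_inv_cancel₀ (card_ne_zero_complex D), one_mul]
      simp only [F]
      rw [← Finset.sum_filter_of_ne (p := fun c : C => c ∈ D) fun c _ hc => ?_,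
        Finset.sum_subtype _ (p := fun c : C => c ∈ D) (by simp)]
      · refine Finset.sum_congr (by congr!) fun d _ => ?_
        have hd : k⁻¹ * ((d : C) : K) * k ∈ C := by
          have h := d.2
          simpa [D] using h
        rw [extendByZero_mem C _ hd]
        simp [f₁, Function.comp_apply]
      · by_contra hcD
        refine hc ?_
        rw [extendByZero_not_mem C _ fun h => hcD (by simpa [D] using h), zero_mul]
    have hle : Nat.card Q ∣ Nat.card D := by
      refine Dvd.dvd.trans (dvd_of_eq (Nat.card_congr (Subgroup.subgroupOfEquivOfLe S.le).toEquiv).symm)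
        (Subgroup.card_dvd_of_le fun q hq => ?_)
      show (MulAut.conj k⁻¹) (q : K) ∈ C
      simpa using S.le (‹Q.Normal›.conj_mem (q : K) (Subgroup.mem_subgroupOf.1 hq) k⁻¹)
    obtain ⟨r, hr⟩ := hle
    rw [hF, hr, Nat.cast_mul, mul_assoc, ← mul_assoc, inv_mul_cancel₀ (card_ne_zero_complex Q), one_mul,
      ← Nat.cast_mul]
    exact isIntegral_algebraMap (x := ((r * m : ℕ) : ℤ))
  -- the inner square of the restriction of the induced character
  have hind : ∀ χ : IrrCharacter K, classInner (indFun C (ξ : C → ℂ)) (χ : K → ℂ) = (mult χ ξ : ℂ) := by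
    intro χ
    rw [classInner_indFun C _ (isClassFunction_of_isIrr χ.2), classInner_conj_symm, mult_spec,
      Complex.conj_natCast]
  have hs : classInner (fun c : C => indFun C (ξ : C → ℂ) c) (ξ : C → ℂ) =
      ((∑ χ : IrrCharacter K, mult χ ξ * mult χ ξ : ℕ) : ℂ) := by
    rw [← classInner_indFun_right C (ξ : C → ℂ) (isClassFunction_indFun C _),
      classInner_eq_sum (isClassFunction_indFun C _)]
    push_cast
    exact Finset.sum_congr rfl fun χ _ => by rw [hind, Complex.conj_natCast]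
  have hsF : classInner (fun c : C => indFun C (ξ : C → ℂ) c) (ξ : C → ℂ) =
      (Nat.card C : ℂ)⁻¹ * (Nat.card C : ℂ)⁻¹ * ∑ k, F k := by
    simp only [classInner, indFun, F, mul_assoc]
    congr 1
    simp only [Finset.mul_sum, Finset.sum_mul]
    rw [Finset.sum_comm]
  have hFconst : ∀ (k : K) (c₀ : C), F (k * c₀) = F k := by
    intro k c₀
    refine Finset.sum_congr rfl fun c _ => congrArg (· * _) ?_
    by_cases hc : k⁻¹ * (c : K) * k ∈ C
    · have hc' : (k * c₀)⁻¹ * (c : K) * (k * c₀) ∈ C := by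
        have := C.mul_mem (C.mul_mem (C.inv_mem c₀.2) hc) c₀.2
        simpa [mul_assoc] using this
      rw [extendByZero_mem C _ hc, extendByZero_mem C _ hc', ← isClassFunction_of_isIrr ξ.2 _ c₀]
      exact congrArg _ (Subtype.ext (by simp [mul_assoc]))
    · rw [extendByZero_not_mem C _ hc, extendByZero_not_mem C _ fun hc' => hc ?_]
      have := C.mul_mem (C.mul_mem c₀.2 hc') (C.inv_mem c₀.2)
      simpa [mul_assoc] using this
  have hFinv : ∀ x k, F (a x k) = F k := by
    intro x k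
    refine (Fintype.sum_equiv (S.autC x).toEquiv _ _ fun c => ?_).symm
    show _ = extendByZero C _ ((a x k)⁻¹ * a x c * a x k) * conj ((ξ : C → ℂ) (S.autC x c))
    rw [hξ x c, ← map_inv, ← map_mul, ← map_mul]
    refine congrArg (· * _) ?_
    by_cases hc : k⁻¹ * (c : K) * k ∈ C
    · rw [extendByZero_mem C _ hc, extendByZero_mem C _ (S.map_mem x _ hc), ← hξ x ⟨_, hc⟩]
      rfl
    · rw [extendByZero_not_mem C _ hc, extendByZero_not_mem C _ fun hc' => hc ?_]
      have := S.map_mem x⁻¹ _ hc'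
      rwa [← MulAut.mul_apply, ← map_mul, inv_mul_cancel, map_one, MulAut.one_apply] at this
  have hF1 : ∀ c₀ : C, F c₀ = (Nat.card C : ℂ) := fun c₀ => by
    rw [← one_mul (c₀ : K), hFconst]
    have h1 := classInner_irr_self ξ.2
    rw [classInner, inv_mul_eq_iff_eq_mul₀ (card_ne_zero_complex C), mul_one] at h1
    rw [← h1]
    refine Finset.sum_congr rfl fun c _ => congrArg (· * _) ?_
    rw [extendByZero_mem C _ (show (1 : K)⁻¹ * (c : K) * 1 ∈ C by simp)]
    exact congrArg _ (Subtype.ext (by simp))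
  -- reduce modulo `M`
  set s : ℕ := ∑ χ : IrrCharacter K, mult χ ξ * mult χ ξ with hsdef
  have e1 : ((Q.relIndex C * (Q.relIndex C * s) : ℕ) : ℂ) =
      ∑ b : K ⧸ Q, (Nat.card Q : ℂ)⁻¹ * F b.out := by
    rw [← Finset.mul_sum]
    have hK : ∑ k, F k = (Nat.card Q : ℂ) * ∑ b : K ⧸ Q, F b.out := by
      rw [S.sum_by_cosets, Finset.mul_sum]
      refine Finset.sum_congr rfl fun b _ => ?_
      rw [Finset.sum_congr rfl fun (q : Q) _ => hFconst b.out ⟨q, S.le q.2⟩, Finset.sum_const,
        Finset.card_univ, nsmul_eq_mul, Nat.card_eq_fintype_card]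
    have h1 := hs.symm.trans hsF
    rw [hK, S.card_C_eq] at h1
    push_cast
    rw [h1]
    have hq : (Nat.card Q : ℂ) ≠ 0 := card_ne_zero_complex Q
    have hr : (Q.relIndex C : ℂ) ≠ 0 :=
      Nat.cast_ne_zero.2 fun h0 => S.relIndex_not_dvd (h0 ▸ dvd_zero p)
    field_simp
  have e2 : ∑ b ∈ Finset.univ.filter (fun b : K ⧸ Q => b.out ∈ C), (Nat.card Q : ℂ)⁻¹ * F b.out =
      ((Q.relIndex C * Q.relIndex C : ℕ) : ℂ) := by
    have h1 := S.sum_C_by_cosets (fun _ => (1 : ℂ))
    simp only [Finset.sum_const, Finset.card_univ, nsmul_eq_mul, mul_one,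
      ← Nat.card_eq_fintype_card] at h1
    rw [Finset.sum_congr rfl fun b hb => show (Nat.card Q : ℂ)⁻¹ * F b.out = (Q.relIndex C : ℂ) by
      rw [hF1 ⟨_, (Finset.mem_filter.1 hb).2⟩, S.card_C_eq, ← mul_assoc,
        inv_mul_cancel₀ (card_ne_zero_complex Q), one_mul], Finset.sum_const, nsmul_eq_mul]
    rw [S.card_C_eq, mul_comm] at h1
    rw [← mul_right_cancel₀ (card_ne_zero_complex Q) h1]
    push_cast
    ring
  have hint : ∀ b : K ⧸ Q, (Nat.card Q : ℂ)⁻¹ * F b.out ∈ Block.locRing M :=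
    fun b => Block.integral_mem_locRing (hFint _)
  have h3 : Block.redC M ((Q.relIndex C * (Q.relIndex C * s) : ℕ) : ℂ) =
      Block.redC M ((Q.relIndex C * Q.relIndex C : ℕ) : ℂ) := by
    rw [e1, ← e2, Block.redC_sum _ fun b _ => hint b, Block.redC_sum _ fun b _ => hint b]
    refine S.sum_quotient _ fun x k => congrArg (fun z => Block.redC M ((Nat.card Q : ℂ)⁻¹ * z)) ?_
    obtain ⟨q₀, hq₀⟩ := QuotientGroup.mk_out_eq_mul Q (a x k)
    obtain ⟨q₁, hq₁⟩ := QuotientGroup.mk_out_eq_mul Q k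
    rw [hq₀, hq₁, hFconst (a x k) ⟨q₀, S.le q₀.2⟩, hFconst k ⟨q₁, S.le q₁.2⟩, hFinv]
  have h4 := S.natCast_eq_of_redC hM h3
  have hr0 : (Q.relIndex C : ZMod p) ≠ 0 := fun h0 =>
    S.relIndex_not_dvd ((ZMod.natCast_eq_zero_iff _ _).1 h0)
  have hzero : (s : ZMod p) = 0 := by
    rw [hsdef, Nat.cast_sum, sum_irr_eq_sum_inv a S.pgroupP _ fun x χ => ?_]
    · refine Finset.sum_eq_zero fun χ hχ => ?_
      rw [Nat.cast_mul, hno χ (Finset.mem_filter.1 hχ).2, mul_zero]
    · suffices e : mult (irrMap a x χ) ξ = mult χ ξ by rw [e]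
      apply Nat.cast_injective (R := ℂ)
      rw [← mult_spec, ← mult_spec]
      simp only [classInner]
      congr 1
      refine Fintype.sum_equiv (S.autC x⁻¹).toEquiv _ _ fun c => ?_
      show (χ : K → ℂ) (a x⁻¹ c) * conj ((ξ : C → ℂ) c) =
        (χ : K → ℂ) (a x⁻¹ c) * conj ((ξ : C → ℂ) (S.autC x⁻¹ c))
      rw [hξ]
  rw [Nat.cast_mul, Nat.cast_mul, Nat.cast_mul, hzero, mul_zero, mul_zero, eq_comm, mul_self_eq_zero] at h4
  exact hr0 h4

/-- The degree modulo `p`. -/
theorem degree_eq {χ : IrrCharacter K} (hχ : Inv a (χ : K → ℂ)) [Fintype (IrrCharacter C)] :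
    (charDegree (χ : K → ℂ) : ZMod p) =
      ∑ ξ ∈ Finset.univ.filter (fun ξ : IrrCharacter C => Inv S.autC (ξ : C → ℂ)),
        (mult χ ξ : ZMod p) * (charDegree (ξ : C → ℂ) : ZMod p) := by
  have := Fintype.ofFinite C
  rw [← sum_irr_eq_sum_inv S.autC S.pgroupP
    (fun ξ => (mult χ ξ : ZMod p) * (charDegree (ξ : C → ℂ) : ZMod p)) (fun x ξ => by
      rw [S.mult_map hχ]
      congr 2
      apply Nat.cast_injective (R := ℂ)
      rw [← CharAux.charDegree_eq (isCharacter_of_isIrr (irrMap S.autC x ξ).2),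
        ← CharAux.charDegree_eq (isCharacter_of_isIrr ξ.2)]
      show (ξ : C → ℂ) (S.autC x⁻¹ 1) = _
      rw [map_one])]
  have h : charDegree (χ : K → ℂ) = ∑ ξ : IrrCharacter C, mult χ ξ * charDegree (ξ : C → ℂ) := by
    apply Nat.cast_injective (R := ℂ)
    have h1 := congrFun (restrict_eq_sum_mult (C := C) χ) 1
    simp only [Subgroup.coe_one] at h1
    push_cast
    rw [← CharAux.charDegree_eq (isCharacter_of_isIrr χ.2), h1]
    refine Finset.sum_congr (by congr!) fun ξ _ => ?_
    rw [CharAux.charDegree_eq (isCharacter_of_isIrr ξ.2)]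
  rw [h, Nat.cast_sum]
  exact Finset.sum_congr rfl fun ξ _ => Nat.cast_mul _ _

end Setup

end Cfsg.Agent.Lib.RelGlauberman
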