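import Cfsg.Agent.Lib.RelGlauberman.Cyclic
import Mathlib.GroupTheory.Nilpotent
import Mathlib.Algebra.Group.Subgroup.Order

/-!
# The correspondence for a `p`-group acting with fixed points modulo a normal Sylow subgroup
-/

set_option autoImplicit false
set_option linter.unusedSectionVars false

namespace Cfsg.Agent.Lib.RelGlauberman

open Cfsg Cfsg.Agent.Lib.Char
open scoped ComplexConjugate Classical

universe u v

variable {K : Type u} [Group K] [Finite K] {p : ℕ} [Fact p.Prime]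

/-- Transitivity of multiplicities. -/
theorem mult_trans {C₁ : Subgroup K} {C : Subgroup K} (h : C ≤ C₁) (χ : IrrCharacter K)
    (ξ : IrrCharacter C) [Fintype (IrrCharacter C₁)]
    (e : IrrCharacter C → IrrCharacter (C.subgroupOf C₁))
    (he : ∀ (c : C), ((e ξ) : C.subgroupOf C₁ → ℂ) ((Subgroup.subgroupOfEquivOfLe h).symm c) = (ξ : C → ℂ) c) :
    mult χ ξ = ∑ η : IrrCharacter C₁, mult χ η * mult η (e ξ) := by
  have := Fintype.ofFinite C
  have := Fintype.ofFinite C₁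
  have := Fintype.ofFinite (C.subgroupOf C₁)
  apply Nat.cast_injective (R := ℂ)
  push_cast
  rw [← mult_spec]
  simp only [← mult_spec _ (e ξ), classInner]
  have h1 := restrict_eq_sum_mult (C := C₁) χ
  have hcard : Nat.card (C.subgroupOf C₁) = Nat.card C :=
    Nat.card_congr (Subgroup.subgroupOfEquivOfLe h).toEquiv
  simp only [hcard, Finset.mul_sum, ← mult_spec (C := C₁)]
  rw [Finset.sum_comm]
  refine Fintype.sum_equiv (Subgroup.subgroupOfEquivOfLe h).symm.toEquiv _ _ fun c => ?_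
  rw [MulEquiv.toEquiv_eq_coe, MulEquiv.coe_toEquiv]
  have h2 := congrFun h1 ⟨(c : K), h c.2⟩
  simp only at h2
  rw [h2, Finset.sum_mul, Finset.mul_sum]
  refine Finset.sum_congr (by congr!) fun η _ => ?_
  rw [he, mult_spec]
  have hc : (((Subgroup.subgroupOfEquivOfLe h).symm c : C.subgroupOf C₁) : C₁) = ⟨(c : K), h c.2⟩ := rfl
  rw [hc]
  ring

/-- Setup restricted to an invariant intermediate subgroup. -/
theorem Setup.restrict {P : Type v} [Group P] {a : P →* MulAut K} {Q C : Subgroup K}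
    (S : Setup a p Q C) {C₁ : Subgroup K} (hC₁ : ∀ x, ∀ k ∈ C₁, a x k ∈ C₁) (hC : C ≤ C₁) :
    Setup (restrAut a C₁ hC₁) p (Q.subgroupOf C₁) (C.subgroupOf C₁) where
  pgroupP := S.pgroupP
  normal := S.normal.subgroupOf C₁
  stable x k hk := S.stable x (k : K) hk
  index h := S.index (h.trans (by
    show Q.relIndex C₁ ∣ Q.index
    exact Dvd.intro _ (Subgroup.relIndex_mul_index (S.le.trans hC))))
  mem k := by
    rw [Subgroup.mem_subgroupOf, S.mem]
    exact forall_congr' fun x => Iff.rfl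

/-- Setup for a subgroup of `P`. -/
theorem Setup.comp {P : Type v} [Group P] {a : P →* MulAut K} {Q C : Subgroup K}
    (S : Setup a p Q C) (H : Subgroup P) :
    ∃ C₁ : Subgroup K, C ≤ C₁ ∧ Setup (a.comp H.subtype) p Q C₁ := by
  have := S.normal
  have hmk : ∀ (x : P) (k l : K), (k : K ⧸ Q) = l → (a x k : K ⧸ Q) = a x l := fun x k l h => S.mk_eq x h
  let C₁ : Subgroup K :=
    { carrier := {k | ∀ x : H, (a x k : K ⧸ Q) = k}
      one_mem' := fun x => by simp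
      mul_mem' := fun {k l} hk hl x => by simp [hk x, hl x]
      inv_mem' := fun {k} hk x => by simp [hk x] }
  refine ⟨C₁, fun k hk x => S.mem_iff.1 hk x, ⟨S.pgroupP.to_subgroup H, S.normal, fun x q hq => S.stable x q hq, S.index, fun k => ?_⟩⟩
  refine forall_congr' fun x => ?_
  rw [← div_eq_mul_inv, ← QuotientGroup.eq_iff_div_mem]
  rfl

/-- At most one invariant character of the fixed subgroup occurs with multiplicity prime to `p`. -/
theorem Setup.unique {P : Type v} [Group P] [Finite P] {a : P →* MulAut K} {Q C : Subgroup K}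
    (S : Setup a p Q C) {χ : IrrCharacter K} (hχ : Inv a (χ : K → ℂ)) {ξ η : IrrCharacter C}
    (hξ : Inv S.autC (ξ : C → ℂ)) (hη : Inv S.autC (η : C → ℂ)) (h1 : (mult χ ξ : ZMod p) ≠ 0)
    (h2 : (mult χ η : ZMod p) ≠ 0) : ξ = η := by
  induction hn : Nat.card P using Nat.strong_induction_on generalizing P C with
  | _ n ih =>
  subst hn
  by_cases hcyc : IsCyclic P
  · letI : CommGroup P := IsCyclic.commGroup
    exact unique_cyclic S hχ hξ hη h1 h2
  have hnil := S.pgroupP.isNilpotent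
  obtain ⟨M, hM, -⟩ : ∃ M : Subgroup P, IsCoatom M ∧ ⊥ ≤ M :=
    ((IsCoatomic.eq_top_or_exists_le_coatom (⊥ : Subgroup P)).resolve_left fun h => hcyc (by
      have : Subsingleton P := ⟨fun x y => by
        have hx := Subgroup.mem_top x
        have hy := Subgroup.mem_top y
        rw [← h, Subgroup.mem_bot] at hx hy
        rw [hx, hy]⟩
      exact isCyclic_of_subsingleton))
  have hMn : M.Normal := Subgroup.NormalizerCondition.normal_of_coatom M Group.normalizerCondition_of_isNilpotent hM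
  obtain ⟨x, hx⟩ : ∃ x, x ∉ M := by
    by_contra hc
    push Not at hc
    exact hM.1 (eq_top_iff.2 fun y _ => hc y)
  obtain ⟨C₁, hCC₁, S₁⟩ := S.comp M
  have hC₁P : ∀ y, ∀ k ∈ C₁, a y k ∈ C₁ := by
    intro y k hk
    rw [S₁.mem_iff] at hk ⊢
    intro m
    have h3 := S.mk_eq y (hk ⟨y⁻¹ * m * y, by simpa using hMn.conj_mem (m : P) m.2 y⁻¹⟩)
    show (a (m : P) (a y k) : K ⧸ Q) = a y k
    rw [← h3]
    show _ = ((a y (a (y⁻¹ * (m : P) * y) k) : K) : K ⧸ Q)
    rw [← MulAut.mul_apply, ← map_mul, ← MulAut.mul_apply, ← map_mul, mul_assoc y⁻¹, mul_inv_cancel_left]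
  -- the subgroup generated by `x` acting on `C₁`
  let R := Subgroup.zpowers x
  have hR : ∀ r : R, ∀ k ∈ C₁, a r k ∈ C₁ := fun r => hC₁P r
  have hgen : M ⊔ R = ⊤ := hM.2 _ (lt_of_le_of_ne le_sup_left fun he => hx (by
    rw [he]; exact Subgroup.mem_sup_right (Subgroup.mem_zpowers x)))
  have S₂ : Setup ((restrAut a C₁ hC₁P).comp R.subtype) p (Q.subgroupOf C₁) (C.subgroupOf C₁) := by
    refine ⟨S.pgroupP.to_subgroup R, (S.restrict hC₁P hCC₁).normal, fun r k hk => (S.restrict hC₁P hCC₁).stable (r : P) k hk,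
      (S.restrict hC₁P hCC₁).index, fun k => ?_⟩
    rw [Subgroup.mem_subgroupOf]
    refine ⟨fun hk r => (S.mem _).1 hk r, fun hk => S.mem_iff.2 ?_⟩
    have := S.normal
    have hT : ∀ y ∈ M ⊔ R, ((a y (k : K) : K) : K ⧸ Q) = (k : K) := by
      let T : Subgroup P :=
        { carrier := {y | ((a y (k : K) : K) : K ⧸ Q) = (k : K)}
          one_mem' := by simp
          mul_mem' := fun {y z} hy hz => by
            show ((a (y * z) (k : K) : K) : K ⧸ Q) = (k : K)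
            rw [map_mul, MulAut.mul_apply, S.mk_eq y hz]; exact hy
          inv_mem' := fun {y} hy => by
            show ((a y⁻¹ (k : K) : K) : K ⧸ Q) = (k : K)
            have h3 := S.mk_eq y⁻¹ hy
            rw [← MulAut.mul_apply, ← map_mul, inv_mul_cancel, map_one, MulAut.one_apply] at h3
            exact h3.symm }
      have hle : M ⊔ R ≤ T := sup_le (fun y hy => S₁.mem_iff.1 k.2 ⟨y, hy⟩) fun y hy => by
        have h3 : a y (k : K) * (k : K)⁻¹ ∈ Q := hk ⟨y, hy⟩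
        rw [← div_eq_mul_inv, ← QuotientGroup.eq_iff_div_mem] at h3
        exact h3
      exact fun y hy => hle hy
    exact fun y => hT y (hgen ▸ Subgroup.mem_top y)
  let eq := Subgroup.subgroupOfEquivOfLe hCC₁
  let e : IrrCharacter C → IrrCharacter (C.subgroupOf C₁) := fun ζ =>
    ⟨fun c => (ζ : C → ℂ) (eq c), isIrrCharacter_comp ζ.2 eq.toMonoidHom eq.surjective⟩
  have := Fintype.ofFinite (IrrCharacter C₁)
  -- the only invariant character of `C₁` that counts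
  let aM := a.comp M.subtype
  have hPmap : ∀ (y : P) (θ : IrrCharacter C₁), Inv S₁.autC (θ : C₁ → ℂ) →
      Inv S₁.autC ((irrMap (restrAut a C₁ hC₁P) y θ) : C₁ → ℂ) := by
    intro y θ hθ m k
    let m' : M := ⟨y⁻¹ * m * y, by simpa using hMn.conj_mem (m : P) m.2 y⁻¹⟩
    show (θ : C₁ → ℂ) (restrAut a C₁ hC₁P y⁻¹ (S₁.autC m k)) = (θ : C₁ → ℂ) (restrAut a C₁ hC₁P y⁻¹ k)
    rw [← hθ m' (restrAut a C₁ hC₁P y⁻¹ k)]
    refine congrArg _ (Subtype.ext ?_)
    show a y⁻¹ (a (m : P) k) = a (y⁻¹ * (m : P) * y) (a y⁻¹ k)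
    rw [← MulAut.mul_apply, ← map_mul, ← MulAut.mul_apply, ← map_mul, mul_inv_cancel_right]
  have hχM : Inv aM (χ : K → ℂ) := fun m k => hχ m k
  have hMlt : Nat.card M < Nat.card P := by
    refine lt_of_le_of_ne (Nat.le_of_dvd Nat.card_pos (Subgroup.card_subgroup_dvd_card M)) fun h => hM.1 ?_
    exact Subgroup.eq_top_of_card_eq M h
  have huniq : ∀ θ θ' : IrrCharacter C₁, Inv S₁.autC (θ : C₁ → ℂ) → Inv S₁.autC (θ' : C₁ → ℂ) →
      (mult χ θ : ZMod p) ≠ 0 → (mult χ θ' : ZMod p) ≠ 0 → θ = θ' :=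
    fun θ θ' a1 a2 a3 a4 => ih _ hMlt S₁ hχM a1 a2 a3 a4 rfl
  have hmultmap : ∀ (y : P) (θ : IrrCharacter C₁),
      mult χ (irrMap (restrAut a C₁ hC₁P) y θ) = mult χ θ := by
    intro y θ
    have := Fintype.ofFinite C₁
    apply Nat.cast_injective (R := ℂ)
    rw [← mult_spec, ← mult_spec]
    simp only [classInner]
    congr 1
    refine Fintype.sum_equiv (restrAut a C₁ hC₁P y⁻¹).toEquiv _ _ fun c => ?_
    show (χ : K → ℂ) c * conj ((θ : C₁ → ℂ) (restrAut a C₁ hC₁P y⁻¹ c)) =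
      (χ : K → ℂ) (a y⁻¹ c) * conj ((θ : C₁ → ℂ) (restrAut a C₁ hC₁P y⁻¹ c))
    rw [hχ]
  -- multiplicities modulo `p`
  have hsum : ∀ ζ : IrrCharacter C, Inv S.autC (ζ : C → ℂ) → (mult χ ζ : ZMod p) =
      ∑ θ ∈ Finset.univ.filter (fun θ : IrrCharacter C₁ => Inv S₁.autC (θ : C₁ → ℂ)),
        (mult χ θ : ZMod p) * (mult θ (e ζ) : ZMod p) := by
    intro ζ hζ
    rw [mult_trans hCC₁ χ ζ e (fun c => congrArg (ζ : C → ℂ) (eq.apply_symm_apply c)), Nat.cast_sum]
    simp only [Nat.cast_mul]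
    refine (sum_irr_eq_sum_inv S₁.autC S₁.pgroupP _ fun m θ => ?_)
    have hm : irrMap S₁.autC m θ = irrMap (restrAut a C₁ hC₁P) (m : P) θ := rfl
    rw [hm, hmultmap]
    congr 2
    have := Fintype.ofFinite C₁
    have := Fintype.ofFinite (C.subgroupOf C₁)
    apply Nat.cast_injective (R := ℂ)
    rw [← mult_spec, ← mult_spec]
    simp only [classInner]
    congr 1
    let τ := restrAut (restrAut a C₁ hC₁P) (C.subgroupOf C₁) (fun y k hk => by
      rw [Subgroup.mem_subgroupOf] at hk ⊢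
      exact S.map_mem y _ hk)
    refine Fintype.sum_equiv (τ (m : P)⁻¹).toEquiv _ _ fun c => ?_
    show (θ : C₁ → ℂ) (restrAut a C₁ hC₁P (m : P)⁻¹ c) * conj ((ζ : C → ℂ) (eq c)) =
      (θ : C₁ → ℂ) (restrAut a C₁ hC₁P (m : P)⁻¹ c) * conj ((ζ : C → ℂ) (eq (τ (m : P)⁻¹ c)))
    rw [← hζ (m : P)⁻¹ (eq c)]
    rfl
  obtain ⟨θ, hθ, hθ0⟩ : ∃ θ : IrrCharacter C₁, Inv S₁.autC (θ : C₁ → ℂ) ∧ (mult χ θ : ZMod p) ≠ 0 := by
    by_contra hc
    push Not at hc
    refine h1 ((hsum ξ hξ).trans (Finset.sum_eq_zero fun θ hθ => ?_))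
    rw [hc θ (Finset.mem_filter.1 hθ).2, zero_mul]
  have hθP : ∀ y, irrMap (restrAut a C₁ hC₁P) y θ = θ := fun y =>
    huniq _ _ (hPmap y θ hθ) hθ (by rwa [hmultmap]) hθ0
  have hred : ∀ ζ : IrrCharacter C, Inv S.autC (ζ : C → ℂ) → (mult χ ζ : ZMod p) ≠ 0 →
      (mult θ (e ζ) : ZMod p) ≠ 0 := by
    intro ζ hζ hne h0
    refine hne ((hsum ζ hζ).trans (Finset.sum_eq_zero fun θ' hθ' => ?_))
    by_cases h3 : (mult χ θ' : ZMod p) = 0
    · rw [h3, zero_mul]
    · rw [huniq θ' θ (Finset.mem_filter.1 hθ').2 hθ h3 hθ0, h0, mul_zero]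
  have he : ∀ ζ : IrrCharacter C, Inv S.autC (ζ : C → ℂ) → Inv S₂.autC ((e ζ) : C.subgroupOf C₁ → ℂ) :=
    fun ζ hζ r c => hζ (r : P) (eq c)
  have heinj : Function.Injective e := fun ζ ζ' h => Subtype.ext (funext fun c => by
    have := congrArg (fun z : IrrCharacter (C.subgroupOf C₁) => (z : C.subgroupOf C₁ → ℂ) (eq.symm c)) h
    simpa [e] using this)
  apply heinj
  haveI : IsCyclic R := inferInstance
  letI : CommGroup R := IsCyclic.commGroup
  refine unique_cyclic S₂ (fun r k => ?_) (he ξ hξ) (he η hη) (hred ξ hξ h1) (hred η hη h2)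
  have h4 := congrArg (fun z : IrrCharacter C₁ => (z : C₁ → ℂ) k) (hθP (r : P)⁻¹)
  simp only [irrMap, inv_inv] at h4
  exact h4

/-- The correspondence. -/
theorem Setup.exists_bijective {P : Type v} [Group P] [Finite P] {a : P →* MulAut K} {Q C : Subgroup K}
    (S : Setup a p Q C) :
    ∃ f : {χ : IrrCharacter K // Inv a (χ : K → ℂ)} → {ξ : IrrCharacter C // Inv S.autC (ξ : C → ℂ)},
      Function.Bijective f ∧ ∀ χ,
        ((mult χ.1 (f χ).1 : ZMod p) = 1 ∨ (mult χ.1 (f χ).1 : ZMod p) = -1) ∧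
        (∀ ξ, ξ ≠ f χ → (mult χ.1 ξ.1 : ZMod p) = 0) ∧
        ((charDegree ((f χ).1 : C → ℂ) : ZMod p) = (charDegree (χ.1 : K → ℂ) : ZMod p) ∨
          (charDegree ((f χ).1 : C → ℂ) : ZMod p) = -(charDegree (χ.1 : K → ℂ) : ZMod p)) := by
  have := Fintype.ofFinite (IrrCharacter C)
  have hex : ∀ χ : {χ : IrrCharacter K // Inv a (χ : K → ℂ)},
      ∃ ξ : {ξ : IrrCharacter C // Inv S.autC (ξ : C → ℂ)}, (mult χ.1 ξ.1 : ZMod p) ≠ 0 := by
    intro χ
    by_contra hc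
    push Not at hc
    have h := S.row_orth χ.2 χ.2
    rw [if_pos rfl, Finset.sum_eq_zero fun ξ hξ => by rw [hc ⟨ξ, (Finset.mem_filter.1 hξ).2⟩, zero_mul]] at h
    exact zero_ne_one h
  choose f hf using hex
  have hu : ∀ χ (ξ : {ξ : IrrCharacter C // Inv S.autC (ξ : C → ℂ)}),
      (mult χ.1 ξ.1 : ZMod p) ≠ 0 → ξ = f χ := fun χ ξ h =>
    Subtype.ext (S.unique χ.2 ξ.2 (f χ).2 h (hf χ))
  refine ⟨f, ⟨fun χ ψ h => ?_, fun ξ => ?_⟩, fun χ => ?_⟩
  · by_contra hne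
    have h2 := S.row_orth χ.2 ψ.2
    rw [if_neg (fun e => hne (Subtype.ext e)), Finset.sum_eq_single (f χ).1 (fun ξ hξ hne' => ?_)
      (fun hn => absurd (Finset.mem_filter.2 ⟨Finset.mem_univ (f χ).1, (f χ).2⟩) hn)] at h2
    · exact mul_ne_zero (hf χ) (h ▸ hf ψ) h2
    · by_contra h0
      exact hne' (congrArg Subtype.val (hu χ ⟨ξ, (Finset.mem_filter.1 hξ).2⟩ (left_ne_zero_of_mul h0)))
  · obtain ⟨χ, hχ, hne⟩ := S.exists_mult_ne_zero ξ.2
    exact ⟨⟨χ, hχ⟩, (hu ⟨χ, hχ⟩ ξ hne).symm⟩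
  · have hz : ∀ ξ, ξ ≠ f χ → (mult χ.1 ξ.1 : ZMod p) = 0 := fun ξ hne => not_not.1 fun h => hne (hu χ ξ h)
    have h2 := S.row_orth χ.2 χ.2
    rw [if_pos rfl, Finset.sum_eq_single (f χ).1 (fun ξ hξ hne' => by
        rw [hz ⟨ξ, (Finset.mem_filter.1 hξ).2⟩ (fun e => hne' (congrArg Subtype.val e)), zero_mul])
      (fun hn => absurd (Finset.mem_filter.2 ⟨Finset.mem_univ (f χ).1, (f χ).2⟩) hn)] at h2
    have hm := mul_self_eq_one_iff.1 h2
    refine ⟨hm, hz, ?_⟩
    have hd := S.degree_eq χ.2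
    rw [Finset.sum_eq_single (f χ).1 (fun ξ hξ hne' => by
        rw [hz ⟨ξ, (Finset.mem_filter.1 hξ).2⟩ (fun e => hne' (congrArg Subtype.val e)), zero_mul])
      (fun hn => absurd (Finset.mem_filter.2 ⟨Finset.mem_univ (f χ).1, (f χ).2⟩) hn)] at hd
    rcases hm with e | e <;> rw [e] at hd
    · exact Or.inl (by rw [hd, one_mul])
    · exact Or.inr (by rw [hd]; ring)

end Cfsg.Agent.Lib.RelGlauberman
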