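import Cfsg.Agent.Lib.RelGlauberman.Basic
import Cfsg.Agent.Lib.Glauberman.Coset

/-!
# Uniqueness for a cyclic `p`-group of automorphisms
-/

set_option autoImplicit false
set_option linter.unusedSectionVars false
set_option linter.style.haveILetI false

namespace Cfsg.Agent.Lib.RelGlauberman

open Cfsg Cfsg.Agent.Lib.Char Cfsg.Agent.Lib.CharCyclo
open Cfsg.Agent.Lib.Glauberman (exists_extension finite_linearHom sum_linearHom coInner coInner_eq exists_coInner_eq coInner_ne coInner_self)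
open scoped ComplexConjugate Classical

universe u v

/-- A nonzero cyclotomic integer has a conjugate of absolute value at least one. -/
theorem exists_one_le_normSq {N : ℕ} (hN : 0 < N) {t : ℂ} (hint : IsIntegral ℤ t) (hfix : Fixed N t)
    (ht : t ≠ 0) : ∃ σ : ℂ ≃+* ℂ, (∃ j : ℕ, Nat.Coprime j N ∧ ∀ μ : ℂ, μ ^ N = 1 → σ μ = μ ^ j) ∧
      1 ≤ Complex.normSq (σ t) := by
  have : NeZero N := ⟨hN.ne'⟩
  choose σ hσ using fun k : (ZMod N)ˣ => CharGalois.exists_aut_pow hN (ZMod.val_coe_unit_coprime k)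
  by_contra hno
  have hlt : ∀ k, Complex.normSq (σ k t) < 1 := fun k => not_le.1 fun hle =>
    hno ⟨σ k, ⟨(k : ZMod N).val, ZMod.val_coe_unit_coprime k, hσ k⟩, hle⟩
  have hconj : ∀ k, conj (σ k t) = σ k (conj t) := fun k =>
    hfix.aut_eq (σ := (σ k).trans starRingAut) (τ := (starRingAut : ℂ ≃+* ℂ).trans (σ k)) fun μ hμ => by
      show conj (σ k μ) = σ k (conj μ)
      rw [conj_root hN.ne' hμ, map_inv₀, hσ k μ hμ,
        conj_root hN.ne' (by rw [← pow_mul, mul_comm, pow_mul, hμ, one_pow])]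
  have hle := CharGalois.card_le_sum_normSq (Finset.univ : Finset (ZMod N)ˣ) (fun k => σ k t)
    (fun k _ => CharGalois.isIntegral_aut _ hint) (fun k _ => by simpa using ht) (fun τ => by
      obtain ⟨j, hj, hτ⟩ := CharGalois.exists_pow_of_aut hN τ
      let w : (ZMod N)ˣ := ZMod.unitOfCoprime j hj
      refine ⟨(w * ·), ⟨fun k _ => by simp, fun a _ b _ h => mul_left_cancel h,
        fun k _ => ⟨w⁻¹ * k, by simp, by simp⟩⟩, fun k _ => ?_⟩
      have hroot : ∀ μ : ℂ, μ ^ N = 1 → τ (σ k μ) = σ (w * k) μ := by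
        intro μ hμ
        rw [hσ k μ hμ, hσ (w * k) μ hμ, map_pow, hτ μ hμ, ← pow_mul]
        have e : ((w * k : (ZMod N)ˣ) : ZMod N).val = (j % N * (k : ZMod N).val) % N := by
          rw [Units.val_mul, ZMod.val_mul, show ((w : ZMod N)) = (j : ZMod N) from rfl,
            ZMod.val_natCast]
        rw [e, pow_eq_pow_mod _ hμ, Nat.mul_mod]
        congr 1
        simp [Nat.mul_mod]
      show τ (σ k t * conj (σ k t)) = σ (w * k) t * conj (σ (w * k) t)
      rw [hconj, hconj, map_mul]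
      congr 1
      · exact hfix.aut_eq (σ := (σ k).trans τ) hroot
      · exact (hfix.conj' hN.ne').aut_eq (σ := (σ k).trans τ) hroot)
  have h2 : ∑ k : (ZMod N)ˣ, Complex.normSq (σ k t) < ∑ _k : (ZMod N)ˣ, (1 : ℝ) :=
    Finset.sum_lt_sum_of_nonempty Finset.univ_nonempty fun k _ => hlt k
  rw [Finset.sum_const, nsmul_eq_mul, mul_one] at h2
  exact absurd hle (not_le.2 h2)

/-- Bessel's inequality for a unit vector and two orthogonal unit vectors. -/
theorem bessel_two {ι : Type*} [Fintype ι] {c : ℝ} (hc : 0 < c) (φ e₁ e₂ : ι → ℂ)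
    (hφ : (c : ℂ)⁻¹ * ∑ i, φ i * conj (φ i) = 1) (h₁ : (c : ℂ)⁻¹ * ∑ i, e₁ i * conj (e₁ i) = 1)
    (h₂ : (c : ℂ)⁻¹ * ∑ i, e₂ i * conj (e₂ i) = 1)
    (h₁₂ : (c : ℂ)⁻¹ * ∑ i, e₁ i * conj (e₂ i) = 0) :
    Complex.normSq ((c : ℂ)⁻¹ * ∑ i, φ i * conj (e₁ i)) +
      Complex.normSq ((c : ℂ)⁻¹ * ∑ i, φ i * conj (e₂ i)) ≤ 1 := by
  set A := (c : ℂ)⁻¹ * ∑ i, φ i * conj (e₁ i) with hA
  set B := (c : ℂ)⁻¹ * ∑ i, φ i * conj (e₂ i) with hB
  have h₂₁ : (c : ℂ)⁻¹ * ∑ i, e₂ i * conj (e₁ i) = 0 := by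
    have h := congrArg conj h₁₂
    rw [map_mul, map_inv₀, Complex.conj_ofReal, map_sum, map_zero] at h
    rw [← h]
    congr 1
    exact Finset.sum_congr rfl fun i _ => by rw [map_mul, Complex.conj_conj, mul_comm]
  have hA' : (c : ℂ)⁻¹ * ∑ i, e₁ i * conj (φ i) = conj A := by
    rw [hA, map_mul, map_inv₀, Complex.conj_ofReal, map_sum]
    congr 1
    exact Finset.sum_congr rfl fun i _ => by rw [map_mul, Complex.conj_conj, mul_comm]
  have hB' : (c : ℂ)⁻¹ * ∑ i, e₂ i * conj (φ i) = conj B := by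
    rw [hB, map_mul, map_inv₀, Complex.conj_ofReal, map_sum]
    congr 1
    exact Finset.sum_congr rfl fun i _ => by rw [map_mul, Complex.conj_conj, mul_comm]
  have key : ((c⁻¹ * ∑ i, Complex.normSq (φ i - A * e₁ i - B * e₂ i) : ℝ) : ℂ) =
      ((1 - Complex.normSq A - Complex.normSq B : ℝ) : ℂ) := by
    push_cast
    simp only [← Complex.mul_conj]
    have e : ∀ i, (φ i - A * e₁ i - B * e₂ i) * conj (φ i - A * e₁ i - B * e₂ i) =
        φ i * conj (φ i) - conj A * (φ i * conj (e₁ i)) - conj B * (φ i * conj (e₂ i))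
        - A * (e₁ i * conj (φ i)) + A * conj A * (e₁ i * conj (e₁ i))
        + A * conj B * (e₁ i * conj (e₂ i)) - B * (e₂ i * conj (φ i))
        + B * conj A * (e₂ i * conj (e₁ i)) + B * conj B * (e₂ i * conj (e₂ i)) := fun i => by
      simp only [map_sub, map_mul]; ring
    simp only [e, Finset.sum_add_distrib, Finset.sum_sub_distrib, ← Finset.mul_sum]
    linear_combination hφ - conj A * hA.symm - conj B * hB.symm - A * hA' + A * conj A * h₁
      + A * conj B * h₁₂ - B * hB' + B * conj A * h₂₁ + B * conj B * h₂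
  have h0 : 0 ≤ c⁻¹ * ∑ i, Complex.normSq (φ i - A * e₁ i - B * e₂ i) :=
    mul_nonneg (inv_nonneg.2 hc.le) (Finset.sum_nonneg fun i _ => Complex.normSq_nonneg _)
  rw [Complex.ofReal_injective key] at h0
  linarith

variable {K : Type u} [Group K] [Finite K] {P : Type v} [CommGroup P] [IsCyclic P] [Finite P]
  {a : P →* MulAut K} {p : ℕ} [Fact p.Prime] {Q C : Subgroup K}

/-- An extension to the semidirect product. -/
theorem exists_extension_semidirect {H : Type u} [Group H] [Finite H] (b : P →* MulAut H)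
    {θ : H → ℂ} (hθ : IsIrrCharacter H θ) (hinv : Inv b θ) :
    ∃ α : H ⋊[b] P → ℂ, IsIrrCharacter (H ⋊[b] P) α ∧ α ∘ SemidirectProduct.inl = θ := by
  have : Finite (H ⋊[b] P) := Finite.of_equiv _ SemidirectProduct.equivProd.symm
  refine exists_extension SemidirectProduct.inl SemidirectProduct.rightHom
    SemidirectProduct.inl_injective SemidirectProduct.rightHom_surjective
    SemidirectProduct.range_inl_eq_ker_rightHom.symm hθ fun g n n' h => ?_
  have h' := congrArg SemidirectProduct.left h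
  simp only [SemidirectProduct.left_inl, SemidirectProduct.mul_left, SemidirectProduct.mul_right,
    SemidirectProduct.right_inl, SemidirectProduct.inv_left, mul_one, map_inv,
    ← MulAut.mul_apply, mul_inv_cancel, MulAut.one_apply] at h'
  have h2 := isClassFunction_of_isIrr hθ (b g.right n) g.left
  rw [← h', hinv] at h2
  exact h2

/-- The conjugates of the fixed coset cover the coset of a generator once. -/
theorem coset_norm (S : Setup a p Q C) [Fintype K] [Fintype C] {g : P}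
    (hg : Subgroup.zpowers g = ⊤) (F : K ⋊[a] P → ℂ) (hF : IsClassFunction (K ⋊[a] P) F) :
    (Nat.card C : ℂ)⁻¹ * ∑ c : C, F (SemidirectProduct.inr g * SemidirectProduct.inl (c : K)) =
      (Nat.card K : ℂ)⁻¹ * ∑ k : K, F (SemidirectProduct.inr g * SemidirectProduct.inl k) := by
  have := S.normal
  have := Fintype.ofFinite (K ⧸ C)
  let Φ : (K ⧸ C) × C → K := fun z => a g⁻¹ z.1.out * z.2 * z.1.out⁻¹
  have hinj : Function.Injective Φ := by
    rintro ⟨b, c⟩ ⟨b', c'⟩ h
    obtain ⟨w, hw⟩ : ∃ w, w = b'.out⁻¹ * b.out := ⟨_, rfl⟩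
    have h1 : a g⁻¹ w * c * w⁻¹ = c' := by
      simp only [Φ] at h
      rw [hw, map_mul, map_inv]
      calc (a g⁻¹ b'.out)⁻¹ * a g⁻¹ b.out * c * (b'.out⁻¹ * b.out)⁻¹
          = (a g⁻¹ b'.out)⁻¹ * (a g⁻¹ b.out * c * b.out⁻¹) * b'.out := by group
        _ = (a g⁻¹ b'.out)⁻¹ * (a g⁻¹ b'.out * c' * b'.out⁻¹) * b'.out := by rw [h]
        _ = c' := by group
    have h2 : a g⁻¹ w = c' * w * (c : K)⁻¹ := by rw [← h1]; group
    have hC : ∀ (d : C) (x : P), (a x (d : K) : K ⧸ Q) = (d : K) := fun d x => (S.mem_iff.1 d.2) x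
    have hiter : ∀ i : ℕ, (a (g⁻¹ ^ i) w : K ⧸ Q) =
        ((c' : K) ^ i * w * ((c : K) ^ i)⁻¹ : K) := by
      intro i
      induction i with
      | zero => simp
      | succ i ih =>
        rw [pow_succ', map_mul, MulAut.mul_apply, S.mk_eq g⁻¹ ih, map_mul, map_mul, map_inv (a g⁻¹),
          map_pow, map_pow, h2]
        simp only [QuotientGroup.mk_mul, QuotientGroup.mk_inv, QuotientGroup.mk_pow, hC, pow_succ]
        group
    obtain ⟨e, he⟩ := IsPGroup.iff_card.1 S.pgroupP
    obtain ⟨m, hm⟩ : ∃ m : ℕ, Nat.ModEq Q.index (Nat.card P * m) 1 := by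
      have hcop : Nat.Coprime (Nat.card P) Q.index :=
        he ▸ Nat.Coprime.pow_left e ((Nat.Prime.coprime_iff_not_dvd Fact.out).2 S.index)
      obtain ⟨t, ht1, ht0⟩ := Nat.chineseRemainder hcop 0 1
      obtain ⟨m, rfl⟩ := Nat.modEq_zero_iff_dvd.1 ht1
      exact ⟨m, ht0⟩
    have hpow : ∀ d : K, ((d ^ (Nat.card P * m) : K) : K ⧸ Q) = (d : K ⧸ Q) := by
      intro d
      rw [QuotientGroup.mk_pow]
      conv_rhs => rw [← pow_one (d : K ⧸ Q)]
      exact pow_eq_pow_iff_modEq.2 (hm.of_dvd (Q.index_eq_card ▸ orderOf_dvd_natCard _))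
    have h3 := hiter (Nat.card P * m)
    rw [pow_mul, pow_card_eq_one', one_pow, map_one, MulAut.one_apply, QuotientGroup.mk_mul,
      QuotientGroup.mk_mul, QuotientGroup.mk_inv, hpow, hpow] at h3
    have h4 : (a g⁻¹ w : K ⧸ Q) = w := by
      rw [h2, QuotientGroup.mk_mul, QuotientGroup.mk_mul, QuotientGroup.mk_inv, ← h3]
    have hwC : w ∈ C := by
      rw [S.mem_iff]
      intro x
      obtain ⟨n, -, hn⟩ : ∃ n : ℕ, True ∧ g⁻¹ ^ n = x := by
        have hx : x ∈ Subgroup.zpowers g⁻¹ := by rw [Subgroup.zpowers_inv, hg]; exact Subgroup.mem_top x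
        obtain ⟨n, hn⟩ := (isOfFinOrder_of_finite g⁻¹).mem_powers_iff_mem_zpowers.2 hx
        exact ⟨n, trivial, hn⟩
      subst hn
      induction n with
      | zero => simp
      | succ n ih => rw [pow_succ, map_mul, MulAut.mul_apply, S.mk_eq _ h4, ih]
    have hbb : b' = b := by
      rw [← QuotientGroup.out_eq' b', ← QuotientGroup.out_eq' b]
      exact QuotientGroup.eq.2 (hw ▸ hwC)
    subst hbb
    exact Prod.ext rfl (Subtype.ext (mul_left_cancel (mul_right_cancel h)))
  have hcard : Fintype.card ((K ⧸ C) × C) = Fintype.card K := by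
    simp only [← Nat.card_eq_fintype_card, Nat.card_prod]
    exact (Subgroup.card_eq_card_quotient_mul_card_subgroup C).symm
  have hbij : Function.Bijective Φ := (Fintype.bijective_iff_injective_and_card Φ).2 ⟨hinj, hcard⟩
  rw [← Fintype.sum_bijective Φ hbij _ _ (fun _ => rfl), Fintype.sum_prod_type,
    Finset.sum_congr rfl fun b _ => Finset.sum_congr rfl fun (c : C) _ =>
      show F (SemidirectProduct.inr g * SemidirectProduct.inl (Φ (b, c))) =
        F (SemidirectProduct.inr g * SemidirectProduct.inl (c : K)) from ?_,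
    Finset.sum_const, Finset.card_univ, nsmul_eq_mul, ← Nat.card_eq_fintype_card,
    Subgroup.card_eq_card_quotient_mul_card_subgroup C, Nat.cast_mul]
  · have h1 : (Nat.card (K ⧸ C) : ℂ) ≠ 0 := Nat.cast_ne_zero.2 Nat.card_pos.ne'
    field_simp
  · rw [← hF (SemidirectProduct.inr g * SemidirectProduct.inl (c : K))
      (SemidirectProduct.inl b.out)]
    refine congrArg F (SemidirectProduct.ext ?_ ?_)
    · simp [Φ, ← MulAut.mul_apply, ← map_mul]
      simp [mul_assoc]
    · simp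

/-- The uniqueness for a cyclic group of automorphisms. -/
theorem unique_cyclic (S : Setup a p Q C) {χ : IrrCharacter K} (hχ : Inv a (χ : K → ℂ))
    {ξ η : IrrCharacter C} (hξ : Inv S.autC (ξ : C → ℂ)) (hη : Inv S.autC (η : C → ℂ))
    (h1 : (mult χ ξ : ZMod p) ≠ 0) (h2 : (mult χ η : ZMod p) ≠ 0) : ξ = η := by
  by_contra hne
  have := Fintype.ofFinite K
  have := Fintype.ofFinite C
  have := Fintype.ofFinite P
  have := finite_linearHom P
  have := Fintype.ofFinite (P →* ℂˣ)
  have : Finite (K ⋊[a] P) := Finite.of_equiv _ SemidirectProduct.equivProd.symm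
  have : Finite (C ⋊[S.autC] P) := Finite.of_equiv _ SemidirectProduct.equivProd.symm
  obtain ⟨α, hα, hαr⟩ := exists_extension_semidirect a χ.2 hχ
  obtain ⟨β₁, hβ₁, hβ₁r⟩ := exists_extension_semidirect S.autC ξ.2 hξ
  obtain ⟨β₂, hβ₂, hβ₂r⟩ := exists_extension_semidirect S.autC η.2 hη
  let j : C ⋊[S.autC] P →* K ⋊[a] P :=
    SemidirectProduct.map C.subtype (MonoidHom.id P) fun x => MonoidHom.ext fun c => rfl
  let i : C →* C ⋊[S.autC] P := SemidirectProduct.inl
  let π : C ⋊[S.autC] P →* P := SemidirectProduct.rightHom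
  have hi : Function.Injective i := SemidirectProduct.inl_injective
  have hπ : Function.Surjective π := SemidirectProduct.rightHom_surjective
  have hex : π.ker = i.range := SemidirectProduct.range_inl_eq_ker_rightHom.symm
  have hd : (fun z => α (j z)) ∘ i = fun c : C => (χ : K → ℂ) c := by
    funext c
    rw [← hαr]
    show α (j (i c)) = α (SemidirectProduct.inl (c : K))
    simp [j, i]
  have hαj : IsCharacter _ (fun z => α (j z)) := isCharacter_comp (isCharacter_of_isIrr hα) j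
  obtain ⟨M, hM⟩ := Block.exists_isPModular (p := p) Fact.out
  haveI := hM.2.1.isPrime
  obtain ⟨e, he⟩ := IsPGroup.iff_card.1 S.pgroupP
  have hNpos : 0 < Nat.card P := Nat.card_pos
  -- the coefficient of an invariant character
  have hcoef : ∀ (ζ : IrrCharacter C) (β : C ⋊[S.autC] P → ℂ), IsIrrCharacter _ β → β ∘ i = (ζ : C → ℂ) →
      (mult χ ζ : ZMod p) ≠ 0 → ∃ n : (P →* ℂˣ) → ℕ,
        (∀ y : P, coInner i (fun z => α (j z)) β (SemidirectProduct.inr y) = ∑ l, (n l : ℂ) * (l y : ℂ)) ∧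
        ∀ y : P, (∑ l, (n l : ℂ) * (l y : ℂ)) ≠ 0 := by
    intro ζ β hβ hβr hm
    obtain ⟨n, hn⟩ := exists_coInner_eq i π hi hπ hex hαj (isCharacter_of_isIrr hβ)
    refine ⟨n, fun y => (hn _).trans (Finset.sum_congr rfl fun l _ => by simp [π]), fun y h0 => ?_⟩
    haveI := Block.resField_charP hM
    have hsum : ((∑ l, n l : ℕ) : ℂ) = (mult χ ζ : ℂ) := by
      rw [← mult_spec, ← hβr]
      have := hn 1
      simp only [coInner, one_mul, map_one, Units.val_one, mul_one] at this
      push_cast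
      rw [← this]
      simp only [classInner, Function.comp_apply]
      congr 1
      refine Finset.sum_congr (by congr!) fun c _ => ?_
      rw [← congrFun hd c]; rfl
    have hroot : ∀ l : P →* ℂˣ, (l y : ℂ) ^ (p ^ e) = 1 := fun l => by
      rw [← Units.val_pow_eq_pow_val, ← map_pow, ← he, pow_card_eq_one', map_one, Units.val_one]
    have hmem : ∀ l : P →* ℂˣ, (l y : ℂ) ∈ Block.locRing M := fun l =>
      Block.integral_mem_locRing (IsIntegral.of_pow (pow_pos (Fact.out : p.Prime).pos e)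
        (by rw [hroot]; exact isIntegral_one))
    have hred := congrArg (Block.redC M) h0
    rw [Block.redC_sum _ fun l _ => mul_mem (natCast_mem _ _) (hmem l), Block.redC_zero,
      Finset.sum_congr rfl fun l _ => show Block.redC M ((n l : ℂ) * (l y : ℂ)) = (n l : Block.ResField M) by
        rw [Block.redC_mul (natCast_mem _ _) (hmem l), Block.redC_natCast, Block.redC_of_mem (hmem l),
          Block.red_rootOfUnity_eq_one hM (k := e) (hroot l), mul_one],
      ← Nat.cast_sum, CharP.cast_eq_zero_iff (Block.ResField M) p] at hred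
    rw [Nat.cast_injective hsum] at hred
    exact hm ((ZMod.natCast_eq_zero_iff _ _).2 hred)
  obtain ⟨n₁, hn₁, hne₁⟩ := hcoef ξ β₁ hβ₁ hβ₁r h1
  obtain ⟨n₂, hn₂, hne₂⟩ := hcoef η β₂ hβ₂ hβ₂r h2
  obtain ⟨g₀, hg₀⟩ := IsCyclic.exists_generator (α := P)
  -- Bessel at every generator
  have hbessel : ∀ k : ℕ, Nat.Coprime k (Nat.card P) →
      Complex.normSq (∑ l, (n₁ l : ℂ) * (l (g₀ ^ k) : ℂ)) +
        Complex.normSq (∑ l, (n₂ l : ℂ) * (l (g₀ ^ k) : ℂ)) ≤ 1 := by
    intro k hk
    have hgen : Subgroup.zpowers (g₀ ^ k) = ⊤ := by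
      refine Subgroup.eq_top_of_card_eq _ ?_
      rw [Nat.card_zpowers, Nat.Coprime.orderOf_pow (by rwa [orderOf_eq_card_of_forall_mem_zpowers hg₀,
        Nat.coprime_comm]), orderOf_eq_card_of_forall_mem_zpowers hg₀]
    set y := g₀ ^ k
    rw [← hn₁ y, ← hn₂ y]
    have hj : ∀ c : C, j (SemidirectProduct.inr y * i c) =
        SemidirectProduct.inr y * SemidirectProduct.inl (c : K) := fun c => by
      rw [map_mul]
      simp [j, i]
    have hφ : coInner i (fun z => α (j z)) (fun z => α (j z)) (SemidirectProduct.inr y) = 1 := by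
      have h3 := coset_norm S hgen (fun z => α z * conj (α z)) (fun z w => by
        simp only [isClassFunction_of_isIrr hα z w])
      have h4 := coInner_self (SemidirectProduct.inl : K →* K ⋊[a] P) SemidirectProduct.rightHom
        SemidirectProduct.inl_injective SemidirectProduct.rightHom_surjective
        SemidirectProduct.range_inl_eq_ker_rightHom.symm hα (hαr.symm ▸ χ.2) (SemidirectProduct.inr y)
      rw [coInner] at h4 ⊢
      rw [← h4, ← h3]
      simp only [hj]
    have hcpos : (0 : ℝ) < (Nat.card C : ℝ) := Nat.cast_pos.2 Nat.card_pos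
    have hb := bessel_two hcpos (fun c : C => α (j (SemidirectProduct.inr y * i c)))
      (fun c => β₁ (SemidirectProduct.inr y * i c)) (fun c => β₂ (SemidirectProduct.inr y * i c))
      (by rw [Complex.ofReal_natCast]; exact hφ)
      (by rw [Complex.ofReal_natCast]; exact coInner_self i π hi hπ hex hβ₁ (hβ₁r.symm ▸ ξ.2) _)
      (by rw [Complex.ofReal_natCast]; exact coInner_self i π hi hπ hex hβ₂ (hβ₂r.symm ▸ η.2) _)
      (by
        rw [Complex.ofReal_natCast]
        exact coInner_ne i π hi hπ hex hβ₁ hβ₂ (by rw [hβ₁r, hβ₂r]; exact fun h => hne (Subtype.ext h)) _)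
    simpa only [Complex.ofReal_natCast, coInner] using hb
  have hroot : ∀ l : P →* ℂˣ, (l g₀ : ℂ) ^ Nat.card P = 1 := fun l => by
    rw [← Units.val_pow_eq_pow_val, ← map_pow, pow_card_eq_one', map_one, Units.val_one]
  obtain ⟨σ, ⟨k, hk, hσ⟩, hle⟩ := exists_one_le_normSq hNpos
    (show IsIntegral ℤ (∑ l : P →* ℂˣ, (n₁ l : ℂ) * (l g₀ : ℂ)) from
      IsIntegral.sum _ fun l _ => IsIntegral.mul (isIntegral_algebraMap (x := (n₁ l : ℤ)))
        (IsIntegral.of_pow hNpos (by rw [hroot]; exact isIntegral_one)))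
    (Fixed.sum _ _ fun l _ => Fixed.mul (fixed_natCast _ (n₁ l)) fun τ hτ => hτ _ (hroot l)) (hne₁ g₀)
  have hσn : ∀ n : (P →* ℂˣ) → ℕ, σ (∑ l, (n l : ℂ) * (l g₀ : ℂ)) = ∑ l, (n l : ℂ) * (l (g₀ ^ k) : ℂ) := by
    intro n
    rw [map_sum]
    exact Finset.sum_congr rfl fun l _ => by
      rw [map_mul, map_natCast, hσ _ (hroot l), map_pow, Units.val_pow_eq_pow_val]
  have hb := hbessel k hk
  rw [← hσn n₁] at hb
  have hpos : 0 < Complex.normSq (∑ l, (n₂ l : ℂ) * (l (g₀ ^ k) : ℂ)) :=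
    Complex.normSq_pos.2 (hne₂ _)
  linarith

end Cfsg.Agent.Lib.RelGlauberman
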